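import Mathlib.Algebra.MvPolynomial.Funext
import Mathlib.Algebra.MvPolynomial.NoZeroDivisors
import Mathlib.RingTheory.Nullstellensatz
import Mathlib.RingTheory.Polynomial.UniqueFactorization
import Mathlib.LinearAlgebra.Matrix.NonsingularInverse
import Mathlib.LinearAlgebra.Matrix.ToLin
import Mathlib.LinearAlgebra.Matrix.ToLinearEquiv
import Mathlib.LinearAlgebra.Eigenspace.Triangularizable
import Mathlib.LinearAlgebra.FiniteDimensional.Lemmas
import Mathlib.Tactic

/-!
Linear families of surjections parametrised by a plane: corank one forces a zero target.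

The maximal minors give a zero-dimensional ideal in three variables whose relations are the rows of
the matrix, and the last variable is then regular modulo that ideal.
-/

noncomputable section

set_option autoImplicit false
set_option linter.style.haveILetI false

universe u v w

open MvPolynomial Matrix

namespace Groth.Agent.H28.VdV

section Minors

variable {S : Type u} [CommRing S] {D : ℕ}

/-- The signed maximal minors. -/
def mvec (B : Matrix (Fin D) (Fin (D + 1)) S) (j : Fin (D + 1)) : S :=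
  (-1) ^ (j : ℕ) * (B.submatrix id j.succAbove).det

/-- The square matrix with an added first row. -/
def addRow (u : Fin (D + 1) → S) (B : Matrix (Fin D) (Fin (D + 1)) S) : Matrix (Fin (D + 1)) (Fin (D + 1)) S :=
  Matrix.of (Fin.cons (α := fun _ => Fin (D + 1) → S) u fun i => B i)

theorem addRow_zero (u : Fin (D + 1) → S) (B : Matrix (Fin D) (Fin (D + 1)) S) (j : Fin (D + 1)) :
    addRow u B 0 j = u j := rfl

theorem addRow_succ (u : Fin (D + 1) → S) (B : Matrix (Fin D) (Fin (D + 1)) S) (i : Fin D) (j : Fin (D + 1)) :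
    addRow u B i.succ j = B i j := rfl

theorem det_addRow (u : Fin (D + 1) → S) (B : Matrix (Fin D) (Fin (D + 1)) S) :
    (addRow u B).det = ∑ j, u j * mvec B j := by
  rw [Matrix.det_succ_row_zero]
  refine Finset.sum_congr rfl fun j _ => ?_
  have hsub : (addRow u B).submatrix Fin.succ j.succAbove = B.submatrix id j.succAbove := by
    ext a b
    simp [addRow_succ]
  rw [hsub, mvec, addRow_zero]
  ring

theorem mulVec_mvec (B : Matrix (Fin D) (Fin (D + 1)) S) : B *ᵥ mvec B = 0 := by
  funext i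
  show ∑ j, B i j * mvec B j = 0
  rw [← det_addRow]
  exact Matrix.det_zero_of_row_eq (Fin.succ_ne_zero i).symm (by funext j; simp [addRow_zero, addRow_succ])

theorem map_mvec {T : Type v} [CommRing T] (f : S →+* T) (B : Matrix (Fin D) (Fin (D + 1)) S) (j : Fin (D + 1)) :
    mvec (B.map f) j = f (mvec B j) := by
  simp [mvec, RingHom.map_det, Matrix.submatrix_map]

theorem dvd_of_dvd_mul_all {ι : Type*} [IsDomain S] [UniqueFactorizationMonoid S] (M : ι → S)
    (hne : ∃ j, M j ≠ 0) (hM : ∀ p : S, Prime p → ∃ j, ¬ p ∣ M j) (w : S) :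
    ∀ x, (∀ j, w ∣ M j * x) → w ∣ x := by
  induction w using UniqueFactorizationMonoid.induction_on_prime with
  | h₁ =>
    intro x hx
    obtain ⟨j, hj⟩ := hne
    rw [zero_dvd_iff]
    exact (mul_eq_zero.1 (zero_dvd_iff.1 (hx j))).resolve_left hj
  | h₂ w hw => exact fun x _ => hw.dvd
  | h₃ a p _ hp ih =>
    intro x hx
    obtain ⟨j, hj⟩ := hM p hp
    obtain ⟨y, rfl⟩ := (hp.dvd_or_dvd ((dvd_mul_right p a).trans (hx j))).resolve_left hj
    refine mul_dvd_mul_left p (ih y fun i => ?_)
    have h := hx i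
    rw [mul_left_comm] at h
    exact (mul_dvd_mul_iff_left hp.ne_zero).1 h

/-- The relations between coprime maximal minors are the combinations of the rows. -/
theorem exists_vecMul_eq [IsDomain S] [UniqueFactorizationMonoid S] (B : Matrix (Fin D) (Fin (D + 1)) S)
    (hne : ∃ j, mvec B j ≠ 0) (hM : ∀ p : S, Prime p → ∃ j, ¬ p ∣ mvec B j)
    (u : Fin (D + 1) → S) (hu : ∑ j, u j * mvec B j = 0) : ∃ v, v ᵥ* B = u := by
  obtain ⟨w, hw0, hw⟩ := Matrix.exists_vecMul_eq_zero_iff.2 ((det_addRow u B).trans hu)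
  have hexp : ∀ j, w 0 * u j + ∑ i, w i.succ * B i j = 0 := fun j => by
    have h := congrFun hw j
    simp only [Matrix.vecMul, dotProduct, Fin.sum_univ_succ, Pi.zero_apply, addRow_zero, addRow_succ] at h
    exact h
  have hN : ∀ j, mvec B j • (fun i : Fin D => w i.succ) =
      -((-1 : S) ^ (j : ℕ) * w 0) • ((fun a => u (j.succAbove a)) ᵥ* (B.submatrix id j.succAbove).adjugate) :=
    fun j => by
      have h1 : (fun i : Fin D => w i.succ) ᵥ* B.submatrix id j.succAbove = -(w 0) • fun a => u (j.succAbove a) := by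
        funext a
        simp only [Matrix.vecMul, dotProduct, Matrix.submatrix_apply, id, Pi.smul_apply, smul_eq_mul]
        linear_combination hexp (j.succAbove a)
      have h2 := congrArg (fun z => z ᵥ* (B.submatrix id j.succAbove).adjugate) h1
      simp only [Matrix.vecMul_vecMul, Matrix.mul_adjugate, Matrix.vecMul_smul, Matrix.vecMul_one,
        Matrix.smul_vecMul] at h2
      rw [mvec, mul_smul, h2, smul_smul]
      congr 1
      ring
  have hw00 : w 0 ≠ 0 := fun h0 => by
    obtain ⟨j, hj⟩ := hne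
    refine hw0 (funext fun i => ?_)
    refine Fin.cases h0 (fun i => ?_) i
    have h := congrFun (hN j) i
    simp only [h0, mul_zero, neg_zero, zero_smul, Pi.smul_apply, Pi.zero_apply, smul_eq_mul] at h
    exact (mul_eq_zero.1 (h.trans (zero_mul _))).resolve_left hj
  have hdvd : ∀ i : Fin D, w 0 ∣ w i.succ := fun i =>
    dvd_of_dvd_mul_all (mvec B) hne hM (w 0) _ fun j => by
      have h := congrFun (hN j) i
      simp only [Pi.smul_apply, smul_eq_mul] at h
      rw [h]
      exact Dvd.dvd.mul_right (dvd_neg.2 (dvd_mul_left _ _)) _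
  choose v hv using hdvd
  refine ⟨-v, funext fun j => mul_left_cancel₀ hw00 ?_⟩
  have h1 : ∑ i, w i.succ * B i j = w 0 * ∑ i, v i * B i j := by
    rw [Finset.mul_sum]
    exact Finset.sum_congr rfl fun i _ => by rw [hv i, mul_assoc]
  have h2 := hexp j
  rw [h1] at h2
  simp only [Matrix.vecMul, dotProduct, Pi.neg_apply, neg_mul, Finset.sum_neg_distrib]
  linear_combination -h2

end Minors

variable {k : Type u} [Field k]

theorem exists_minor_ne_zero {D : ℕ} (B : Matrix (Fin D) (Fin (D + 1)) k) (hB : Function.Surjective B.mulVec) :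
    ∃ j, mvec B j ≠ 0 := by
  by_contra! hall
  obtain ⟨z, hz, hz0⟩ : ∃ z, B *ᵥ z = 0 ∧ z ≠ 0 := by
    have h : LinearMap.ker B.mulVecLin ≠ ⊥ := LinearMap.ker_ne_bot_of_finrank_lt (by simp)
    obtain ⟨z, hz, hz0⟩ := Submodule.exists_mem_ne_zero_of_ne_bot h
    exact ⟨z, hz, hz0⟩
  obtain ⟨a, ha⟩ := Function.ne_iff.1 hz0
  obtain ⟨w, hw0, hw⟩ := Matrix.exists_vecMul_eq_zero_iff.2
    ((det_addRow (Pi.single a 1) B).trans (by simp [hall]))
  have hexp : w 0 • (Pi.single a 1 : Fin (D + 1) → k) + (fun i : Fin D => w i.succ) ᵥ* B = 0 := by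
    rw [← hw]
    funext j
    simp only [Matrix.vecMul, dotProduct, Fin.sum_univ_succ, addRow_zero, addRow_succ,
      Pi.add_apply, Pi.smul_apply, smul_eq_mul]
  have h0 := congrArg (fun x => x ⬝ᵥ z) hexp
  simp only [add_dotProduct, smul_dotProduct, single_dotProduct, one_mul, zero_dotProduct,
    ← Matrix.dotProduct_mulVec, hz, dotProduct_zero, add_zero, smul_eq_mul] at h0
  have hw00 : w 0 = 0 := (mul_eq_zero.1 h0).resolve_right ha
  rw [hw00, zero_smul, zero_add] at hexp
  refine hw0 (funext fun i => ?_)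
  refine Fin.cases hw00 (fun i => ?_) i
  obtain ⟨c, hc⟩ := hB (Pi.single i 1)
  have h1 := congrArg (fun x => x ⬝ᵥ c) hexp
  simp only [← Matrix.dotProduct_mulVec, zero_dotProduct] at h1
  rw [show B *ᵥ c = Pi.single i 1 from hc, dotProduct_single, mul_one] at h1
  exact h1

variable [IsAlgClosed k]

/-- Polynomials vanishing at most at the origin generate an ideal with all variables in its radical. -/
theorem exists_pow_mem {σ : Type v} [Finite σ] {ι : Type w} (f : ι → MvPolynomial σ k)
    (h : ∀ ℓ : σ → k, (∀ i, eval ℓ (f i) = 0) → ℓ = 0) (s : σ) :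
    ∃ N : ℕ, (X s : MvPolynomial σ k) ^ N ∈ Ideal.span (Set.range f) := by
  have hm : (X s : MvPolynomial σ k) ∈
      MvPolynomial.vanishingIdeal k (MvPolynomial.zeroLocus k (Ideal.span (Set.range f))) := by
    rw [MvPolynomial.mem_vanishingIdeal_iff]
    intro x hx
    have hx0 : x = 0 := h x fun i => by
      have := MvPolynomial.mem_zeroLocus_iff.1 hx (f i) (Ideal.subset_span ⟨i, rfl⟩)
      simpa [MvPolynomial.aeval_eq_eval] using this
    simp [hx0]
  rw [MvPolynomial.vanishingIdeal_zeroLocus_eq_radical] at hm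
  exact hm

/-- A corank one surjective linear family over a plane has zero target. -/
theorem eq_zero_of_surjective {D : ℕ} (A : Fin 3 → Matrix (Fin D) (Fin (D + 1)) k)
    (h : ∀ ℓ : Fin 3 → k, ℓ ≠ 0 → Function.Surjective (∑ i, ℓ i • A i).mulVec) : D = 0 := by
  by_contra hD
  haveI : Nonempty (Fin D) := ⟨⟨0, by omega⟩⟩
  let B : Matrix (Fin D) (Fin (D + 1)) (MvPolynomial (Fin 3) k) :=
    ∑ i, (X i : MvPolynomial (Fin 3) k) • (A i).map C
  have hev : ∀ ℓ : Fin 3 → k, B.map (eval ℓ) = ∑ i, ℓ i • A i := fun ℓ => by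
    ext a b
    simp [B, Matrix.sum_apply]
  have hzero : ∀ ℓ : Fin 3 → k, (∀ j, eval ℓ (mvec B j) = 0) → ℓ = 0 := fun ℓ hℓ => by
    by_contra hne
    obtain ⟨j, hj⟩ := exists_minor_ne_zero _ (h ℓ hne)
    exact hj (by rw [← hev, map_mvec]; exact hℓ j)
  let π : MvPolynomial (Fin 3) k →ₐ[k] MvPolynomial (Fin 2) k := aeval ![X 0, X 1, 0]
  let ρ : MvPolynomial (Fin 2) k →ₐ[k] MvPolynomial (Fin 3) k := rename Fin.castSucc
  have hπρ : ∀ p, π (ρ p) = p := fun p => by
    have : π.comp ρ = AlgHom.id k _ := MvPolynomial.algHom_ext fun i => by fin_cases i <;> simp [π, ρ]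
    exact DFunLike.congr_fun this p
  have hker : ∀ p, (X 2 : MvPolynomial (Fin 3) k) ∣ p - ρ (π p) := fun p => by
    induction p using MvPolynomial.induction_on with
    | C c => simp [π, ρ, MvPolynomial.algebraMap_eq]
    | add p q hp hq =>
      rw [map_add, map_add, add_sub_add_comm]
      exact dvd_add hp hq
    | mul_X p i hp =>
      rw [map_mul, map_mul, show p * X i - ρ (π p) * ρ (π (X i)) =
        (p - ρ (π p)) * X i + ρ (π p) * (X i - ρ (π (X i))) by ring]
      refine dvd_add (hp.mul_right _) (Dvd.dvd.mul_left ?_ _)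
      fin_cases i <;> simp [π, ρ]
  let B' := B.map π.toRingHom
  have hM' : ∀ j, mvec B' j = π (mvec B j) := fun j => map_mvec π.toRingHom B j
  have hzero' : ∀ ℓ : Fin 2 → k, (∀ j, eval ℓ (mvec B' j) = 0) → ℓ = 0 := fun ℓ hℓ => by
    have he : ∀ p, eval ![ℓ 0, ℓ 1, 0] p = eval ℓ (π p) := fun p => by
      induction p using MvPolynomial.induction_on with
      | C c => simp [π]
      | add p q hp hq => simp [hp, hq]
      | mul_X p i hp =>
        simp only [map_mul, hp]
        fin_cases i <;> simp [π]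
    have h0 := hzero ![ℓ 0, ℓ 1, 0] fun j => by rw [he, ← hM']; exact hℓ j
    funext i
    fin_cases i
    · simpa using congrFun h0 0
    · simpa using congrFun h0 1
  have hne' : ∃ j, mvec B' j ≠ 0 := by
    by_contra! hall
    have := congrFun (hzero' ![1, 0] fun j => by simp [hall j]) 0
    simp at this
  have hgcd : ∀ p : MvPolynomial (Fin 2) k, Prime p → ∃ j, ¬ p ∣ mvec B' j := fun p hp => by
    by_contra! hall
    have hX : ∀ s : Fin 2, p ∣ X s := fun s => by
      obtain ⟨N, hN⟩ := exists_pow_mem (mvec B') hzero' s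
      have hle : Ideal.span (Set.range (mvec B')) ≤ Ideal.span {p} :=
        Ideal.span_le.2 (by rintro _ ⟨j, rfl⟩; exact Ideal.mem_span_singleton.2 (hall j))
      exact hp.dvd_of_dvd_pow (Ideal.mem_span_singleton.1 (hle hN))
    have h01 : Associated p (X 0) := hp.irreducible.associated_of_dvd (MvPolynomial.X_prime (R := k)).irreducible (hX 0)
    have hd : (X 0 : MvPolynomial (Fin 2) k) ∣ X 1 := h01.dvd_iff_dvd_left.1 (hX 1)
    obtain ⟨c, hc⟩ := hd
    have := congrArg (eval ![(0 : k), 1]) hc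
    simp at this
  let I := Ideal.span (Set.range (mvec B))
  have hreg : ∀ y, X 2 * y ∈ I → y ∈ I := fun y hy => by
    obtain ⟨a, ha⟩ := Ideal.mem_span_range_iff_exists_fun.1 hy
    have hπa : ∑ j, π (a j) * mvec B' j = 0 := by
      simp only [hM', ← map_mul, ← map_sum, ha]
      simp [π]
    obtain ⟨v, hv⟩ := exists_vecMul_eq B' hne' hgcd _ hπa
    let a' := a - (fun i => ρ (v i)) ᵥ* B
    have hdvd : ∀ j, (X 2 : MvPolynomial (Fin 3) k) ∣ a' j := fun j => by
      have h0 : π (a' j) = 0 := by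
        simp only [a', Pi.sub_apply, map_sub, Matrix.vecMul, dotProduct, map_sum, map_mul, hπρ]
        exact sub_eq_zero.2 (congrFun hv j).symm
      simpa [h0] using hker (a' j)
    choose c hc using hdvd
    refine Ideal.mem_span_range_iff_exists_fun.2 ⟨c, mul_left_cancel₀ (MvPolynomial.X_ne_zero 2) ?_⟩
    rw [← ha, Finset.mul_sum]
    have hBM : ((fun i => ρ (v i)) ᵥ* B) ⬝ᵥ mvec B = 0 := by
      rw [← Matrix.dotProduct_mulVec, mulVec_mvec, dotProduct_zero]
    calc ∑ j, X 2 * (c j * mvec B j) = ∑ j, a' j * mvec B j :=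
          Finset.sum_congr rfl fun j _ => by rw [hc j, mul_assoc]
      _ = ∑ j, a j * mvec B j - ((fun i => ρ (v i)) ᵥ* B) ⬝ᵥ mvec B := by
          simp only [a', Pi.sub_apply, sub_mul, Finset.sum_sub_distrib]; rfl
      _ = _ := by rw [hBM, sub_zero]
  obtain ⟨N, hN⟩ := exists_pow_mem (mvec B) hzero 2
  have h1 : (1 : MvPolynomial (Fin 3) k) ∈ I := by
    clear_value B
    induction N with
    | zero => simpa using hN
    | succ N ih => exact ih (hreg _ (by rwa [pow_succ'] at hN))
  have hev0 : I ≤ RingHom.ker (eval (0 : Fin 3 → k)) := Ideal.span_le.2 (by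
    rintro _ ⟨j, rfl⟩
    show eval 0 (mvec B j) = 0
    rw [← map_mvec, hev]
    simp [mvec])
  simpa using hev0 h1

section Maps

variable {N₀ : Type v} {N₁ : Type w} [AddCommGroup N₀] [Module k N₀] [AddCommGroup N₁] [Module k N₁]

/-- A family of bijections linear in two parameters is zero. -/
theorem subsingleton_of_bijective [FiniteDimensional k N₀] {n : ℕ} (T : (Fin (n + 2) → k) →ₗ[k] N₀ →ₗ[k] N₁)
    (h : ∀ ℓ, ℓ ≠ 0 → Function.Bijective (T ℓ)) : Subsingleton N₀ := by
  by_contra hne
  rw [not_subsingleton_iff_nontrivial] at hne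
  let a : Fin (n + 2) → k := Pi.single 0 1
  let b : Fin (n + 2) → k := Pi.single 1 1
  have ha : a ≠ 0 := fun h0 => by simpa [a] using congrFun h0 0
  let e := LinearEquiv.ofBijective (T a) (h a ha)
  obtain ⟨μ, hμ⟩ := Module.End.exists_eigenvalue (e.symm.toLinearMap ∘ₗ T b)
  obtain ⟨v, hv⟩ := hμ.exists_hasEigenvector
  have hv' : T b v = μ • T a v := by
    have h1 := congrArg e hv.apply_eq_smul
    simp only [LinearMap.comp_apply, LinearEquiv.coe_coe, e.apply_symm_apply, map_smul] at h1
    exact h1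
  have hne' : b - μ • a ≠ 0 := fun h0 => by simpa [a, b] using congrFun h0 1
  refine hv.2 ((h _ hne').1 ?_)
  simp [hv']

/-- A family of surjections linear in three parameters, all of corank one, has zero target. -/
theorem subsingleton_of_surjective [FiniteDimensional k N₀] [FiniteDimensional k N₁]
    (T : (Fin 3 → k) →ₗ[k] N₀ →ₗ[k] N₁) (hT : ∀ ℓ, ℓ ≠ 0 → Function.Surjective (T ℓ))
    (hK : ∀ ℓ, ℓ ≠ 0 → Module.finrank k (LinearMap.ker (T ℓ)) = 1) : Subsingleton N₁ := by
  let D := Module.finrank k N₁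
  have h0 : Module.finrank k N₀ = D + 1 := by
    have hl : (Pi.single 0 1 : Fin 3 → k) ≠ 0 := fun h0 => by simpa using congrFun h0 0
    rw [← LinearMap.finrank_range_add_finrank_ker (T (Pi.single 0 1)), hK _ hl,
      LinearMap.range_eq_top.2 (hT _ hl), finrank_top]
  let e₀ := (Module.finBasisOfFinrankEq k N₀ h0).equivFun
  let e₁ := (Module.finBasis k N₁).equivFun
  let A := fun i => LinearMap.toMatrix' (e₁.toLinearMap ∘ₗ T (Pi.single i 1) ∘ₗ e₀.symm.toLinearMap)
  have hA : ∀ ℓ v, (∑ i, ℓ i • A i) *ᵥ v = e₁ (T ℓ (e₀.symm v)) := fun ℓ v => by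
    simp only [Matrix.sum_mulVec, Matrix.smul_mulVec, A, LinearMap.toMatrix'_mulVec, LinearMap.comp_apply,
      LinearEquiv.coe_coe]
    conv_rhs => rw [pi_eq_sum_univ' ℓ]
    simp only [map_sum, map_smul, LinearMap.sum_apply, LinearMap.smul_apply]
  have hD := eq_zero_of_surjective A fun ℓ hℓ y => by
    obtain ⟨x, hx⟩ := hT ℓ hℓ (e₁.symm y)
    exact ⟨e₀ x, (hA ℓ _).trans (by rw [e₀.symm_apply_apply, hx, e₁.apply_symm_apply])⟩
  exact Module.finrank_zero_iff.1 hD

end Maps

end Groth.Agent.H28.VdV
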