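import Groth.Agent.H28.VdV.Lines
import Groth.Agent.H28.VdV.Alg

/-!
Rank two bundles on the plane with the same splitting `O ⊕ O(-m)` on every line.
-/

set_option autoImplicit false
set_option linter.style.haveILetI false
set_option linter.unusedSectionVars false
set_option backward.isDefEq.respectTransparency false
set_option backward.isDefEq.respectTransparency.types false
set_option maxHeartbeats 1000000

universe u

open CategoryTheory CategoryTheory.Limits AlgebraicGeometry TopologicalSpace Opposite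
open scoped Groth.Agent.H23.PicMul

noncomputable section

namespace Groth.Agent.H28.VdV

open Groth.Agent Groth.Agent.Synt29 Groth.Agent.H23.PicMul Groth.Agent.AModX Groth.Agent.H28.GM

variable {k : Type u} [Field k] [IsAlgClosed k]

local instance over5 : ∀ n : ℕ, (CohB1.ProjSpace n k).Over (Spec (CommRingCat.of k)) := fun n =>
  ⟨CohB1.ProjSpace.toSpec n k⟩

local instance qs5 : ∀ n : ℕ, QuasiSeparated (CohB1.ProjSpace.toSpec n k) := fun n => by
  haveI := PnCoh.Chow.isProper_toSpec n k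
  infer_instance

local instance integral5 : ∀ n : ℕ, IsIntegral (CohB1.ProjSpace n k) := fun n =>
  H23.PnChart.isIntegral_projSpace n k

local instance noeth5 : ∀ n : ℕ, IsLocallyNoetherian (CohB1.ProjSpace n k) := fun n =>
  PnCoh.Finite.isLocallyNoetherian_projSpace n k

local notation "P2" => CohB1.ProjSpace 2 k

/-- The same splitting on every line. -/
def Uniform (m : ℤ) (E : (CohB1.ProjSpace 2 k).Modules) : Prop :=
  ∀ (j : CohB1.ProjSpace 1 k ⟶ CohB1.ProjSpace 2 k) [IsClosedImmersion j],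
    j ≫ CohB1.ProjSpace.toSpec 2 k = CohB1.ProjSpace.toSpec 1 k →
    Nonempty ((Scheme.Modules.pullback j).obj (Hl 2 k) ≅ Hl 1 k) →
    Nonempty ((Scheme.Modules.pullback j).obj E ≅ Twist.twistProjSpace 1 k 0 ⊞ Twist.twistProjSpace 1 k (-m))

variable {E : (CohB1.ProjSpace 2 k).Modules} (hE : FlatMod.IsFinLocFreeOfRank 2 E) {m : ℤ} (hu : Uniform m E)

theorem cl_step (E : (CohB1.ProjSpace 2 k).Modules) (d : ℤ) :
    PicF.cl (CohB1.tensorMod (twd E (d - 1)) (Hl 2 k)) = PicF.cl (twd E d) := by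
  rw [cl_twd_succ, sub_add_cancel]

include hE in
theorem lf_twd (d : ℤ) : FlatMod.IsFinLocFree (twd E d) := H28.KvbModel.lf_of_rank (rank_twd hE d)

include hu in
theorem split_twist (j : CohB1.ProjSpace 1 k ⟶ CohB1.ProjSpace 2 k) [IsClosedImmersion j]
    (hq : j ≫ CohB1.ProjSpace.toSpec 2 k = CohB1.ProjSpace.toSpec 1 k)
    (hτ : Nonempty ((Scheme.Modules.pullback j).obj (Hl 2 k) ≅ Hl 1 k)) (d : ℤ) :
    Nonempty ((Scheme.Modules.pullback j).obj (CohB1.tensorMod (twd E (d - 1)) (Hl 2 k)) ≅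
      Twist.twistProjSpace 1 k d ⊞ Twist.twistProjSpace 1 k (d - m)) := by
  obtain ⟨e⟩ := hu j hq hτ
  obtain ⟨e1⟩ := cl_eq_iff.1 (cl_step E d)
  obtain ⟨e2⟩ := HyperH0.pullback_twist_free j hτ e d
  obtain ⟨e3⟩ := twist_biprod (k := k) 1 0 (-m) d (Iso.refl _)
  exact ⟨(Scheme.Modules.pullback j).mapIso e1 ≪≫ e2 ≪≫ e3 ≪≫
    biprod.mapIso (eqToIso (by rw [zero_add])) (eqToIso (by rw [neg_add_eq_sub]))⟩

theorem exists_data {ℓ : Fin 3 → k} (hℓ : ℓ ≠ 0) :
    ∃ j : CohB1.ProjSpace 1 k ⟶ CohB1.ProjSpace 2 k, IsClosedImmersion j ∧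
      j ≫ CohB1.ProjSpace.toSpec 2 k = CohB1.ProjSpace.toSpec 1 k ∧
      Nonempty ((Scheme.Modules.pullback j).obj (Hl 2 k) ≅ Hl 1 k) ∧
      j.ker = PicF2.zeroScheme (Hl 2 k) (InvX.ofSect (form (m := 2) ℓ)) :=
  exists_hyp k 1 (form_ne_zero (m := 2) hℓ)

theorem e0_ne_zero : (Pi.single 0 1 : Fin 3 → k) ≠ 0 := fun h0 => by simpa using congrFun h0 0

include hE hu in
theorem sections_vanish (hm : 0 ≤ m) : ∀ d : ℤ, d ≤ -1 → Subsingleton Γ(twd E d, ⊤) := by
  obtain ⟨N₀, hN₀⟩ := HyperH0.exists_vanish (n := 2) (k := k) (by omega) hE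
  obtain ⟨j, hj, hq, hτ, hker⟩ := exists_data (k := k) e0_ne_zero
  haveI := hj
  suffices key : ∀ (i : ℕ) (d : ℤ), d ≤ -(N₀ : ℤ) + i → d ≤ -1 → Subsingleton Γ(twd E d, ⊤) from
    fun d hd => key (d + N₀).toNat d (by omega) hd
  intro i
  induction i with
  | zero =>
    intro d hd _
    have h := hN₀ (-d).toNat (by omega)
    rw [show (-((-d).toNat : ℤ)) = d by omega] at h
    exact HyperH0.subsingleton_sections h
  | succ i ih =>
    intro d hd hd1
    obtain ⟨e⟩ := split_twist hu j hq hτ d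
    exact subsingleton_of_cl (cl_step E d) (subsingleton_middle (isInvertible_Hl (k := k) 2) (lf_twd hE _)
      (form_ne_zero e0_ne_zero) j hker (ih (d - 1) (by push_cast at hd; omega) (by omega))
      (subsingleton_sections_neg e (by omega) (by omega)))

include hE hu in
theorem T_surjective {d : ℤ} (hd : -1 ≤ d) (hd' : m - 1 ≤ d) (ℓ : Fin 3 → k) (hℓ : ℓ ≠ 0) :
    Function.Surjective (T (twd E (d - 1)) ℓ) := by
  obtain ⟨j, hj, hq, hτ, hker⟩ := exists_data (k := k) hℓ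
  haveI := hj
  obtain ⟨e⟩ := split_twist hu j hq hτ d
  rw [T_apply]
  exact surjective_of_restr (isInvertible_Hl (k := k) 2) (lf_twd hE _) (form_ne_zero hℓ) j hker
    (subsingleton_h1 e hd (by omega))

include hE hu in
theorem T_injective_neg {d : ℤ} (hm : 0 ≤ m) (hd : d ≤ -1) (ℓ : Fin 3 → k) (hℓ : ℓ ≠ 0) :
    Function.Injective (T (twd E (d - 1)) ℓ) := by
  obtain ⟨j, hj, hq, hτ, hker⟩ := exists_data (k := k) hℓ
  haveI := hj
  obtain ⟨e⟩ := split_twist hu j hq hτ d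
  rw [T_apply]
  exact injective_of_restr (isInvertible_Hl (k := k) 2) (lf_twd hE _) (form_ne_zero hℓ) j hker
    (subsingleton_sections_neg e (by omega) (by omega))

include hE hu in
theorem h1_up {d₀ : ℤ} (hd₀ : -2 ≤ d₀) (hd₀' : m - 2 ≤ d₀)
    (h : Subsingleton (Coh.HH P2 (twd E d₀) 1)) : ∀ d : ℤ, d₀ ≤ d → Subsingleton (Coh.HH P2 (twd E d) 1) := by
  suffices key : ∀ i : ℕ, Subsingleton (Coh.HH P2 (twd E (d₀ + i)) 1) from
    fun d hd => (show d₀ + ((d - d₀).toNat : ℤ) = d by omega) ▸ key (d - d₀).toNat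
  intro i
  induction i with
  | zero => simpa using h
  | succ i ih =>
    obtain ⟨e⟩ := cl_eq_iff.1 (cl_step E (d₀ + (i + 1 : ℕ)))
    have hsurj := T_surjective hE hu (d := d₀ + (i + 1 : ℕ)) (by omega) (by omega) _ e0_ne_zero
    haveI : Subsingleton (Coh.HH P2 (twd E (d₀ + (i + 1 : ℕ) - 1)) 1) := by
      rwa [show d₀ + ((i + 1 : ℕ) : ℤ) - 1 = d₀ + (i : ℤ) by omega]
    exact QCoh.subsingleton_HH_of_iso e 1 hsurj.subsingleton

theorem h1_down {E : (CohB1.ProjSpace 2 k).Modules} {d₀ : ℤ}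
    (hinj : ∀ d ≤ d₀, Function.Injective (T (twd E (d - 1)) (Pi.single 0 1)))
    (h : Subsingleton (Coh.HH P2 (twd E d₀) 1)) : ∀ d : ℤ, d ≤ d₀ → Subsingleton (Coh.HH P2 (twd E d) 1) := by
  suffices key : ∀ i : ℕ, Subsingleton (Coh.HH P2 (twd E (d₀ - i)) 1) from
    fun d hd => (show d₀ - ((d₀ - d).toNat : ℤ) = d by omega) ▸ key (d₀ - d).toNat
  intro i
  induction i with
  | zero => simpa using h
  | succ i ih =>
    obtain ⟨e⟩ := cl_eq_iff.1 (cl_step E (d₀ - i))
    haveI := QCoh.subsingleton_HH_of_iso e.symm 1 ih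
    rw [show d₀ - ((i + 1 : ℕ) : ℤ) = d₀ - (i : ℤ) - 1 by omega]
    exact (hinj (d₀ - i) (by omega)).subsingleton

/-! ### With a section -/

include hE hu in
theorem T_injective_of_section (hm : 1 ≤ m) {σ : Γ(E, ⊤)} (hσ : σ ≠ 0) {d : ℤ} (hd : d ≤ m - 1)
    (ℓ : Fin 3 → k) (hℓ : ℓ ≠ 0) : Function.Injective (T (twd E (d - 1)) ℓ) := by
  rcases le_or_gt d (-1) with hneg | hnn
  · exact T_injective_neg hE hu (by omega) hneg ℓ hℓ
  obtain ⟨j, hj, hq, hτ, hker⟩ := exists_data (k := k) hℓ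
  haveI := hj
  obtain ⟨e⟩ := split_twist hu j hq hτ d
  rw [T_apply]
  have hL := isInvertible_Hl (k := k) 2
  have hM := lf_twd hE (d - 1)
  have hv := form_ne_zero (m := 2) hℓ
  let G := twF (k := k) 2 (d - 1)
  let G1 := twF (k := k) 2 1
  haveI : G.IsEquivalence := SubLine.isEquivalence_twist (n := 2) (k := k) (d - 1)
  haveI : G1.IsEquivalence := SubLine.isEquivalence_twist (n := 2) (k := k) 1
  haveI : G.Additive := Functor.additive_of_preserves_binary_products _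
  haveI : G1.Additive := Functor.additive_of_preserves_binary_products _
  have hA : FlatMod.IsFinLocFree (G.obj (Coh.structureModule (P2))) :=
    isFinLocFree_tensor (PnEuler.isInvertible_O 2 k (d - 1)) (lf_O (k := k) 2)
  have hclA : PicF.cl (G.obj (Coh.structureModule (P2))) = PnEuler.tw 2 k (d - 1) := by
    rw [show PicF.cl (G.obj (Coh.structureModule (P2))) = _ from cl_tensor (Coh.structureModule (P2)) _,
      ← one_def, one_mul]
  have hclA1 : PicF.cl (G1.obj (G.obj (Coh.structureModule (P2)))) = PnEuler.tw 2 k d := by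
    rw [show PicF.cl (G1.obj (G.obj (Coh.structureModule (P2)))) = _ from cl_tensor _ _, hclA]
    exact (PnEuler.tw_add 2 k (d - 1) 1).trans (congrArg (PnEuler.tw 2 k) (sub_add_cancel d 1))
  have hη₁ : G1.map (G.map (InvX.ofSect σ)) ≠ 0 := fun h => GM.ofSect_ne_zero hσ
    (G.map_injective (G1.map_injective (h.trans (by rw [Functor.map_zero, Functor.map_zero]))))
  have hh : ∀ ζ : G1.obj (G.obj (Coh.structureModule (P2))) ⟶ twd E (d - 1), ζ = 0 := fun ζ => by
    obtain ⟨eA⟩ := cl_eq_iff.1 hclA1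
    refine (cancel_epi eA.inv).1 (Eq.trans ?_ comp_zero.symm)
    exact PnRigid.hom_twist_eq_zero (n := 2) (k := k) d _ fun M' hM' => by
      obtain ⟨eM⟩ := cl_eq_iff.1 (show PicF.cl M' = PicF.cl (twd E (-1)) by
        rw [hM', cl_twd, cl_twd, mul_assoc]
        exact congrArg (PicF.cl E * ·) ((PnEuler.tw_add 2 k (d - 1) (-d)).trans
          (congrArg (PnEuler.tw 2 k) (by ring))))
      exact QCoh.subsingleton_HH_of_iso eM.symm 0
        (HyperH0.subsingleton_HH0 (sections_vanish hE hu (by omega) (-1) le_rfl))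
  have hjη := pull_map_ne_zero hL hM hv j hker _ hη₁ hh
  obtain ⟨eA'⟩ := cl_eq_iff.1 (show PicF.cl ((Scheme.Modules.pullback j).obj (G1.obj (G.obj (Coh.structureModule (P2))))) =
      PnEuler.tw 1 k d from
    (congrArg (PicF.pullCl j) hclA1).trans (HyperH0.pullCl_O j hτ d))
  refine injective_of_sweep hL hM hv j hker hA (G.map (InvX.ofSect σ)) ?_
    (surjective_sections e (by omega) (by omega) eA' _ hjη)
  obtain ⟨eA2⟩ := cl_eq_iff.1 hclA
  exact QCoh.subsingleton_HH_of_iso eA2.symm 1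
    (Groth.Agent.S0844.result k 2 (d - 1) 1 (fun h => by omega) fun h => by omega)

include hE hu in
theorem h1_vanish_of_section (hm : 1 ≤ m) {σ : Γ(E, ⊤)} (hσ : σ ≠ 0) (d : ℤ) :
    Subsingleton (Coh.HH P2 (twd E d) 1) := by
  have hbij : ∀ ℓ : Fin 3 → k, ℓ ≠ 0 → Function.Bijective (T (twd E (m - 1 - 1)) ℓ) := fun ℓ hℓ =>
    ⟨T_injective_of_section hE hu hm hσ le_rfl ℓ hℓ, T_surjective hE hu (by omega) le_rfl ℓ hℓ⟩
  haveI := finite_h1 (k := k) (lf_twd hE (m - 1 - 1))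
  have h2 := subsingleton_of_bijective (n := 1) (T (twd E (m - 1 - 1))) hbij
  rcases le_or_gt d (m - 1 - 1) with hd | hd
  · exact h1_down (fun d' hd' => T_injective_of_section hE hu hm hσ (by omega) _ e0_ne_zero) h2 d hd
  · exact h1_up hE hu (by omega) (by omega) h2 d hd.le

/-! ### Without sections -/

include hE hu in
theorem h1_without_section (hm : m = 1) (h0 : Subsingleton Γ(E, ⊤)) :
    (∀ d : ℤ, d ≠ -1 → Subsingleton (Coh.HH P2 (twd E d) 1)) ∧
      Module.finrank k (Coh.HH P2 (twd E (-1)) 1) = 1 := by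
  subst hm
  have hL := isInvertible_Hl (k := k) 2
  have hcl0 : PicF.cl (CohB1.tensorMod (twd E (0 - 1)) (Hl 2 k)) = PicF.cl E := by
    rw [cl_step, cl_twd, PnEuler.tw_zero, mul_one]
  have h2 : Subsingleton Γ(CohB1.tensorMod (twd E (0 - 1)) (Hl 2 k), ⊤) := subsingleton_of_cl hcl0.symm h0
  haveI := finite_h1 (k := k) (lf_twd hE (0 - 1))
  haveI := finite_h1 (k := k) (isFinLocFree_tensor hL (lf_twd hE (0 - 1)))
  have hK : ∀ ℓ : Fin 3 → k, ℓ ≠ 0 → Module.finrank k (LinearMap.ker (T (twd E (0 - 1)) ℓ)) = 1 := by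
    intro ℓ hℓ
    obtain ⟨j, hj, hq, hτ, hker⟩ := exists_data (k := k) hℓ
    haveI := hj
    obtain ⟨e⟩ := split_twist hu j hq hτ 0
    obtain ⟨s, hs0, hs⟩ := GM.exists_kernel (k := k) hL (lf_twd hE (0 - 1)) (form_ne_zero hℓ) j hker h2
      (not_subsingleton_sections e le_rfl)
    rw [T_apply]
    refine finrank_eq_one ⟨s, hs⟩ (fun h => hs0 (Subtype.ext_iff.1 h)) fun w => ?_
    obtain ⟨a, ha⟩ := GM.kernel_line (k := k) hL (lf_twd hE (0 - 1)) (form_ne_zero hℓ) j hker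
      (CohB1.ProjSpace.toSpec 1 k) hq (fun r r' hr => exists_smul_section e (by omega) r r' hr) hs w.2 hs0
    exact ⟨a, Subtype.ext ha.symm⟩
  have hz := subsingleton_of_surjective (T (twd E (0 - 1)))
    (fun ℓ hℓ => T_surjective hE hu (by omega) (by omega) ℓ hℓ) hK
  obtain ⟨e0⟩ := cl_eq_iff.1 (cl_step E 0)
  have hrank : Module.finrank k (Coh.HH P2 (twd E (-1)) 1) = 1 := by
    have h := (T (twd E (0 - 1)) (Pi.single 0 1)).finrank_range_add_finrank_ker
    rw [hK _ e0_ne_zero, Module.finrank_zero_iff.2 (inferInstance : Subsingleton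
      (LinearMap.range (T (twd E (0 - 1)) (Pi.single 0 1)))), zero_add] at h
    rw [show (-1 : ℤ) = 0 - 1 by ring]
    exact h.symm
  have hm2 : Subsingleton (Coh.HH P2 (twd E (-1 - 1)) 1) := by
    haveI := finite_h1 (k := k) (lf_twd hE (-1 - 1))
    haveI := finite_h1 (k := k) (isFinLocFree_tensor hL (lf_twd hE (-1 - 1)))
    by_contra hne
    rw [not_subsingleton_iff_nontrivial] at hne
    haveI := hne
    obtain ⟨e1⟩ := cl_eq_iff.1 (cl_step E (-1))
    have hr : Module.finrank k (Coh.HH P2 (CohB1.tensorMod (twd E (-1 - 1)) (Hl 2 k)) 1) = 1 := by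
      rw [(RegDescent.HHequiv (k := k) e1 1).finrank_eq, hrank]
    have hinj := fun ℓ hℓ => T_injective_neg hE hu (d := -1) zero_le_one le_rfl ℓ hℓ
    have heq : Module.finrank k (Coh.HH P2 (twd E (-1 - 1)) 1) =
        Module.finrank k (Coh.HH P2 (CohB1.tensorMod (twd E (-1 - 1)) (Hl 2 k)) 1) := by
      have h1 := LinearMap.finrank_le_finrank_of_injective (hinj _ e0_ne_zero)
      have h2 : 0 < Module.finrank k (Coh.HH P2 (twd E (-1 - 1)) 1) := Module.finrank_pos
      omega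
    exact not_subsingleton (Coh.HH P2 (twd E (-1 - 1)) 1) (subsingleton_of_bijective (n := 1) _ fun ℓ hℓ =>
      ⟨hinj ℓ hℓ, (LinearMap.injective_iff_surjective_of_finrank_eq_finrank heq).1 (hinj ℓ hℓ)⟩)
  refine ⟨fun d hd => ?_, hrank⟩
  rcases le_or_gt d (-1 - 1) with h | h
  · exact h1_down (fun d' hd' => T_injective_neg hE hu zero_le_one (by omega) _ e0_ne_zero) hm2 d h
  · exact h1_up hE hu (d₀ := 0) (by omega) (by omega) (QCoh.subsingleton_HH_of_iso e0 1 hz) d (by omega)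

/-- No sections and a wide splitting do not occur. -/
theorem false_of_wide [CharZero k] {E : (CohB1.ProjSpace 2 k).Modules} (hE : FlatMod.IsFinLocFreeOfRank 2 E)
    {m : ℤ} (hu : Uniform m E) (hm : 2 ≤ m) (h0 : Subsingleton Γ(E, ⊤)) : False := by
  obtain ⟨c, hdet⟩ := exists_det hE
  obtain ⟨j₀, hj₀, hq₀, hτ₀, -⟩ := exists_data (k := k) e0_ne_zero
  haveI := hj₀
  obtain ⟨e₀⟩ := hu j₀ hq₀ hτ₀
  have hc := det_biprod e₀ (det_pullback (m := 1) hE hdet j₀ hτ₀)
  obtain ⟨j, hj, hq, hτ, hs⟩ := exists_hyperplane (m := 0) hE hdet (t := 0) (by omega) (Or.inl (by omega))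
    (HyperH0.subsingleton_HH0 (subsingleton_of_cl (show PicF.cl E = PicF.cl (twd E 0) by
      rw [cl_twd, PnEuler.tw_zero, mul_one]) h0))
  haveI := hj
  obtain ⟨e⟩ := hu j hq hτ
  obtain ⟨e'⟩ := twist_biprod 1 0 (-m) 0 e
  exact not_subsingleton_sections e' (by omega) (HyperH0.subsingleton_sections hs)

end Groth.Agent.H28.VdV
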