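import Groth.Agent.H28.GM.Iter
import Groth.Agent.H28.PBCores

/-!
Rank two bundles on a line with a given splitting, and multiplication by a linear form on first cohomology.
-/

set_option autoImplicit false
set_option linter.style.haveILetI false
set_option linter.unusedSectionVars false
set_option backward.isDefEq.respectTransparency false
set_option backward.isDefEq.respectTransparency.types false
set_option maxHeartbeats 1000000

universe u

open CategoryTheory CategoryTheory.Limits AlgebraicGeometry TopologicalSpace Opposite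
open scoped Groth.Agent.H23.PicMul

noncomputable section

namespace Groth.Agent.H28.VdV

open Groth.Agent Groth.Agent.Synt29 Groth.Agent.H23.PicMul Groth.Agent.AModX Groth.Agent.H28.GM

variable {k : Type u} [Field k] [IsAlgClosed k]

local instance over4 : ∀ n : ℕ, (CohB1.ProjSpace n k).Over (Spec (CommRingCat.of k)) := fun n =>
  ⟨CohB1.ProjSpace.toSpec n k⟩

local instance qs4 : ∀ n : ℕ, QuasiSeparated (CohB1.ProjSpace.toSpec n k) := fun n => by
  haveI := PnCoh.Chow.isProper_toSpec n k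
  infer_instance

local instance integral4 : ∀ n : ℕ, IsIntegral (CohB1.ProjSpace n k) := fun n =>
  H23.PnChart.isIntegral_projSpace n k

local instance noeth4 : ∀ n : ℕ, IsLocallyNoetherian (CohB1.ProjSpace n k) := fun n =>
  PnCoh.Finite.isLocallyNoetherian_projSpace n k

local instance proper4 : ∀ n : ℕ, IsProper (CohB1.ProjSpace n k ↘ Spec (CommRingCat.of k)) := fun n =>
  PnCoh.Chow.isProper_toSpec n k

/-- The twist by `O(d)` as a functor. -/
abbrev twF (n : ℕ) (d : ℤ) : (CohB1.ProjSpace n k).Modules ⥤ (CohB1.ProjSpace n k).Modules :=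
  DCoh.tensorBi.flip.obj (Twist.twistProjSpace n k d)

/-- The sum of two twists. -/
theorem twist_biprod (n : ℕ) (a b d : ℤ) {M : (CohB1.ProjSpace n k).Modules}
    (e : M ≅ Twist.twistProjSpace n k a ⊞ Twist.twistProjSpace n k b) :
    Nonempty (CohB1.tensorMod M (Twist.twistProjSpace n k d) ≅
      Twist.twistProjSpace n k (a + d) ⊞ Twist.twistProjSpace n k (b + d)) := by
  let G := twF (k := k) n d
  haveI : G.Additive := Functor.additive_of_preserves_binary_products _
  haveI : PreservesBinaryBiproduct (Twist.twistProjSpace n k a) (Twist.twistProjSpace n k b) G :=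
    preservesBinaryBiproduct_of_preservesBiproduct G _ _
  obtain ⟨ea⟩ := cl_eq_iff.1 (show PicF.cl (G.obj (Twist.twistProjSpace n k a)) = PnEuler.tw n k (a + d) from
    (cl_tensor _ _).trans (PnEuler.tw_add n k a d))
  obtain ⟨eb⟩ := cl_eq_iff.1 (show PicF.cl (G.obj (Twist.twistProjSpace n k b)) = PnEuler.tw n k (b + d) from
    (cl_tensor _ _).trans (PnEuler.tw_add n k b d))
  exact ⟨G.mapIso e ≪≫ G.mapBiprod _ _ ≪≫ biprod.mapIso ea eb⟩

/-! ### On the line -/

section Line

variable {a b : ℤ} {F : (CohB1.ProjSpace 1 k).Modules}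

theorem subsingleton_line {d : ℤ} (hd : d < 0) (n : ℕ) (hn : n ≠ 0 := by omega) :
    Subsingleton Γ(Twist.twistProjSpace n k d, ⊤) :=
  HyperH0.subsingleton_sections (Groth.Agent.S0844.result k n d 0 (fun h => by omega) fun h => by omega)

theorem eq_zero_of_biprod {u : Γ(F, ⊤)} (e : F ≅ Twist.twistProjSpace 1 k a ⊞ Twist.twistProjSpace 1 k b)
    (h1 : InvX.ofSect u ≫ e.hom ≫ biprod.fst = 0) (h2 : InvX.ofSect u ≫ e.hom ≫ biprod.snd = 0) : u = 0 := by
  have h : InvX.ofSect u = 0 := by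
    rw [← cancel_mono e.hom, zero_comp]
    exact biprod.hom_ext _ _ (by rw [Category.assoc, h1, zero_comp]) (by rw [Category.assoc, h2, zero_comp])
  rw [← InvX.one_ofSect u, h]
  rfl

theorem comp_ofSect {X : Scheme.{u}} {M N : X.Modules} (u : Γ(M, ⊤)) (f : M ⟶ N) :
    InvX.ofSect u ≫ f = InvX.ofSect (f.app ⊤ u) := by
  refine RegEpi.hom_eq_of_one_eq _ _ ?_
  show f.app ⊤ (InvX.one (InvX.ofSect u)) = InvX.one (InvX.ofSect (f.app ⊤ u))
  rw [InvX.one_ofSect, InvX.one_ofSect]

theorem ofSect_zero {X : Scheme.{u}} {M : X.Modules} : InvX.ofSect (0 : Γ(M, ⊤)) = 0 := by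
  refine RegEpi.hom_eq_of_one_eq _ _ ?_
  show InvX.one (InvX.ofSect (0 : Γ(M, ⊤))) = 0
  rw [InvX.one_ofSect]

theorem subsingleton_sections_neg (e : F ≅ Twist.twistProjSpace 1 k a ⊞ Twist.twistProjSpace 1 k b)
    (ha : a < 0) (hb : b < 0) : Subsingleton Γ(F, ⊤) := by
  haveI := subsingleton_line (k := k) ha 1
  haveI := subsingleton_line (k := k) hb 1
  suffices h : ∀ u : Γ(F, ⊤), u = 0 from ⟨fun u v => (h u).trans (h v).symm⟩
  intro u
  refine eq_zero_of_biprod e ?_ ?_ <;>
    rw [comp_ofSect, Subsingleton.elim ((e.hom ≫ _).app ⊤ u) 0, ofSect_zero]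

theorem subsingleton_h1 (e : F ≅ Twist.twistProjSpace 1 k a ⊞ Twist.twistProjSpace 1 k b)
    (ha : -1 ≤ a) (hb : -1 ≤ b) : Subsingleton (Coh.HH (CohB1.ProjSpace 1 k) F 1) := by
  have hS := SubLine.shortExact_biprod (Twist.twistProjSpace 1 k a) (Twist.twistProjSpace 1 k b)
  exact QCoh.subsingleton_HH_of_iso e.symm 1 (QCoh.subsingleton_HH_X₂ hS 1
    (Groth.Agent.S0844.result k 1 a 1 (fun h => by omega) fun h => by omega)
    (Groth.Agent.S0844.result k 1 b 1 (fun h => by omega) fun h => by omega))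

theorem not_subsingleton_sections (e : F ≅ Twist.twistProjSpace 1 k a ⊞ Twist.twistProjSpace 1 k b)
    (ha : 0 ≤ a) : ¬ Subsingleton Γ(F, ⊤) := fun h => by
  obtain ⟨f, hf⟩ := Rank2Pn.exists_ne_zero (n := 1) (k := k) (a := 0) (b := a) ha
  obtain ⟨e0⟩ := nonempty_O_zero (m := 1) (k := k)
  have h0 : e0.inv ≫ f ≫ biprod.inl ≫ e.inv = 0 :=
    RegEpi.hom_eq_of_one_eq _ _ (h.elim _ _)
  rw [← cancel_epi e0.hom, Iso.hom_inv_id_assoc, comp_zero] at h0
  exact hf ((cancel_mono (biprod.inl ≫ e.inv)).1 (h0.trans zero_comp.symm))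

/-- A nonzero map from the bigger summand sweeps out all sections. -/
theorem surjective_sections {d : ℤ} (e : F ≅ Twist.twistProjSpace 1 k d ⊞ Twist.twistProjSpace 1 k b)
    (hb : b < 0) (hbd : b < d) {A : (CohB1.ProjSpace 1 k).Modules} (eA : A ≅ Twist.twistProjSpace 1 k d)
    (τ : A ⟶ F) (hτ : τ ≠ 0) : Function.Surjective (τ.app ⊤) := by
  have h2 : eA.inv ≫ τ ≫ e.hom ≫ biprod.snd = 0 := by
    by_contra hne
    have := Rank2Pn.le_of_ne_zero (n := 1) (k := k) one_ne_zero _ hne
    omega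
  let Λ : LineSimple.Line (CohB1.ProjSpace 1 k) :=
    { L := Twist.twistProjSpace 1 k d
      inv := Twist.twistProjSpace 1 k (-d)
      lf := H28.KvbModel.lf_of_rank (Rank2Pn.rank_O d)
      lfInv := H28.KvbModel.lf_of_rank (Rank2Pn.rank_O (-d))
      iso := cl_eq_iff.1 (by
        rw [cl_tensor, ← one_def, ← PnEuler.tw_zero 1 k, ← neg_add_cancel d]
        exact PnEuler.tw_add 1 k (-d) d) }
  obtain ⟨z, hz⟩ := LineSimple.exists_smul_id (k := k) Λ finrank_h0
    ((eA.inv ≫ τ ≫ e.hom ≫ biprod.fst : Twist.twistProjSpace 1 k d ⟶ Twist.twistProjSpace 1 k d))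
  change eA.inv ≫ τ ≫ e.hom ≫ biprod.fst = z • 𝟙 _ at hz
  have hz0 : z ≠ 0 := fun h0 => by
    rw [h0, zero_smul] at hz
    refine hτ ((cancel_mono e.hom).1 ((cancel_epi eA.inv).1 ?_))
    rw [zero_comp, comp_zero]
    exact biprod.hom_ext _ _ (by simp only [Category.assoc, hz, zero_comp]) (by simp only [Category.assoc, h2, zero_comp])
  let χ : F ⟶ A := z⁻¹ • (e.hom ≫ biprod.fst ≫ eA.inv)
  have h1 : (χ ≫ τ) ≫ e.hom ≫ biprod.fst = e.hom ≫ biprod.fst := by
    show (z⁻¹ • (e.hom ≫ biprod.fst ≫ eA.inv) ≫ τ) ≫ e.hom ≫ biprod.fst = _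
    simp only [Linear.smul_comp, Category.assoc, hz, Linear.comp_smul, Category.comp_id, smul_smul,
      inv_mul_cancel₀ hz0, one_smul]
    exact congrArg (e.hom ≫ ·) (Category.comp_id _)
  intro u
  refine ⟨χ.app ⊤ u, ?_⟩
  haveI := subsingleton_line (k := k) hb 1
  rw [← sub_eq_zero]
  refine eq_zero_of_biprod e ?_ ?_
  · rw [comp_ofSect, map_sub, sub_eq_zero.2, ofSect_zero]
    exact congrArg (fun t : F ⟶ _ => t.app ⊤ u) h1
  · rw [comp_ofSect, Subsingleton.elim ((e.hom ≫ biprod.snd).app ⊤ _) 0, ofSect_zero]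

/-- A nonzero section spans when only the first summand has sections. -/
theorem exists_smul_section (e : F ≅ Twist.twistProjSpace 1 k 0 ⊞ Twist.twistProjSpace 1 k b) (hb : b < 0)
    (r r' : Γ(F, ⊤)) (hr : r ≠ 0) :
    ∃ a : k, r' = (ProjUP.toGlobal (CohB1.ProjSpace.toSpec 1 k) a • r : Γ(F, ⊤)) := by
  obtain ⟨e0⟩ := nonempty_O_zero (m := 1) (k := k)
  obtain ⟨f, rfl⟩ := surjective_sections e hb hb e0.symm (InvX.ofSect r) (GM.ofSect_ne_zero hr) r'
  obtain ⟨a, rfl⟩ := endo_one f
  refine ⟨a, ?_⟩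
  rw [Scheme.Modules.Hom.app_smul]
  exact congrArg (HSMul.hSMul (ProjUP.toGlobal (CohB1.ProjSpace.toSpec 1 k) a)) (InvX.one_ofSect r)

end Line

/-! ### Multiplication by forms -/

section Mult

variable {n : ℕ}

/-- Multiplication by linear forms on first cohomology. -/
def T (M : (CohB1.ProjSpace n k).Modules) :
    (Fin (n + 1) → k) →ₗ[k] (Coh.HH (CohB1.ProjSpace n k) M 1 →ₗ[k]
      Coh.HH (CohB1.ProjSpace n k) (CohB1.tensorMod M (Hl n k)) 1) :=
  ∑ i, (LinearMap.proj i).smulRight (Canon.HHlin k (mul M (ProjUP.coord n k i : Γ(Hl n k, ⊤))) 1)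

theorem T_apply (M : (CohB1.ProjSpace n k).Modules) (ℓ : Fin (n + 1) → k) :
    T M ℓ = Canon.HHlin k (mul M (form ℓ)) 1 := by
  rw [HHlin_mul_form, T, LinearMap.sum_apply]
  rfl

theorem finite_h1 {M : (CohB1.ProjSpace n k).Modules} (hM : FlatMod.IsFinLocFree M) :
    Module.Finite k (Coh.HH (CohB1.ProjSpace n k) M 1) :=
  CurveCohLib.finite_HH (k := k) (QCoh.isCoh_iff_isFP.2 (QCoh.isFP_of_isFinLocFree hM)) 1

variable {X Z : Scheme.{u}} [IsIntegral X] [IsLocallyNoetherian X] [X.Over (Spec (CommRingCat.of k))]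
  {L : X.Modules} (hL : PicF.IsInvertible L) {M : X.Modules} (hM : FlatMod.IsFinLocFree M)
  {v : Γ(L, ⊤)} (hv : v ≠ 0) (j : Z ⟶ X) [IsClosedImmersion j]
  (hker : j.ker = PicF2.zeroScheme L (InvX.ofSect v))
include hL hM hv hker

/-- Multiplication is surjective when the restriction has no first cohomology. -/
theorem surjective_of_restr
    (h : Subsingleton (Coh.HH Z ((Scheme.Modules.pullback j).obj (CohB1.tensorMod M L)) 1)) :
    Function.Surjective (Canon.HHlin k (mul M v) 1) := fun x => by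
  have hS := seq_shortExact hL hM hv j hker
  obtain ⟨e, -⟩ := exists_push_natural j
  haveI := h
  haveI : Subsingleton (Coh.HH X (restr j (CohB1.tensorMod M L)) 1) :=
    (e _ (qcoh_pullback j (isFinLocFree_tensor hL hM))).symm.toEquiv.subsingleton
  exact exists_of_g hS (Subsingleton.elim (α := Coh.HH X (restr j (CohB1.tensorMod M L)) 1) _ _)

/-- Multiplication is injective when all sections of the restriction lift. -/
theorem injective_of_lift
    (h : ∀ r : Γ(restr j (CohB1.tensorMod M L), ⊤), dl k (seq_shortExact hL hM hv j hker) r = 0) :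
    Function.Injective (Canon.HHlin k (mul M v) 1) := by
  refine (injective_iff_map_eq_zero _).2 fun x hx => ?_
  obtain ⟨r, rfl⟩ := exists_dl (seq_shortExact hL hM hv j hker) hx
  exact h r

/-- Multiplication is injective when a morphism from an acyclic module sweeps out the sections of the restriction. -/
theorem injective_of_sweep {A : X.Modules} (hA : FlatMod.IsFinLocFree A) (η : A ⟶ M)
    (hA1 : Subsingleton (Coh.HH X A 1))
    (hsurj : Function.Surjective (((Scheme.Modules.pullback j).map ((DCoh.tensorBi.flip.obj L).map η)).app ⊤)) :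
    Function.Injective (Canon.HHlin k (mul M v) 1) := by
  refine injective_of_lift hL hM hv j hker fun r => ?_
  have hSA := seq_shortExact hL hA hv j hker
  have hSM := seq_shortExact hL hM hv j hker
  let φ : seq hL hA v j hker ⟶ seq hL hM v j hker :=
    { τ₁ := η
      τ₂ := (DCoh.tensorBi.flip.obj L).map η
      τ₃ := (Scheme.Modules.pushforward j).map ((Scheme.Modules.pullback j).map ((DCoh.tensorBi.flip.obj L).map η))
      comm₁₂ := mul_natural η v
      comm₂₃ := (Scheme.Modules.pullbackPushforwardAdjunction j).unit.naturality ((DCoh.tensorBi.flip.obj L).map η) }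
  obtain ⟨r', hr'⟩ := hsurj r
  have h := dl_natural (k := k) hSA hSM φ r'
  rw [Subsingleton.elim (α := Coh.HH X A 1) (dl k hSA r') 0, map_zero] at h
  exact (congrArg (dl k hSM) hr'.symm).trans h.symm

omit [X.Over (Spec (CommRingCat.of k))] in
/-- The restriction of a map into a twist is nonzero when it does not factor through the untwisted module. -/
theorem pull_map_ne_zero {A : X.Modules} (η : A ⟶ CohB1.tensorMod M L) (hη : η ≠ 0)
    (hh : ∀ ζ : A ⟶ M, ζ = 0) : (Scheme.Modules.pullback j).map η ≠ 0 := fun h => by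
  have hS := seq_shortExact hL hM hv j hker
  have hres : η ≫ toRestr j (CohB1.tensorMod M L) = 0 := by
    refine ((Scheme.Modules.pullbackPushforwardAdjunction j).unit.naturality η).trans ?_
    show _ ≫ (Scheme.Modules.pushforward j).map ((Scheme.Modules.pullback j).map η) = 0
    rw [h, Functor.map_zero, comp_zero]
  haveI := hS.mono_f
  have hl := hS.exact.lift_f η hres
  rw [hh (hS.exact.lift η hres), zero_comp] at hl
  exact hη hl.symm

omit [X.Over (Spec (CommRingCat.of k))] in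
/-- No sections from the two sides. -/
theorem subsingleton_middle (h1 : Subsingleton Γ(M, ⊤))
    (h3 : Subsingleton Γ((Scheme.Modules.pullback j).obj (CohB1.tensorMod M L), ⊤)) :
    Subsingleton Γ(CohB1.tensorMod M L, ⊤) := by
  have hS := seq_shortExact hL hM hv j hker
  suffices ∀ u : Γ(CohB1.tensorMod M L, ⊤), u = 0 from ⟨fun a b => (this a).trans (this b).symm⟩
  intro u
  obtain ⟨r, rfl⟩ := exists_section_lift hS (u := u) (h3.elim _ _)
  rw [h1.elim r 0, map_zero]

end Mult

/-! ### The determinant -/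

theorem det_biprod {F : (CohB1.ProjSpace 1 k).Modules} {a b c : ℤ}
    (e : F ≅ Twist.twistProjSpace 1 k a ⊞ Twist.twistProjSpace 1 k b)
    (hdet : ∃ L : (CohB1.ProjSpace 1 k).Modules, ExtPow.IsExtPow 2 F L ∧
      Nonempty (L ≅ Twist.twistProjSpace 1 k c)) : a + b = c := by
  obtain ⟨U, hU, hU1, hU2, hU3⟩ := SubLine.exists_ses (SubLine.shortExact_biprod (Twist.twistProjSpace 1 k a)
    (Twist.twistProjSpace 1 k b)) (Rank2Pn.rank_O a) (H28.KvbModel.lf_of_rank (Rank2Pn.rank_O b))
  have hz : IsZero U.X₃ := by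
    obtain ⟨e3⟩ := cl_eq_iff.1 hU3
    exact (H28.KvbModel.isZero_L (Rank2Pn.rank_O (n := 1) (k := k) b) one_lt_two).of_iso e3
  haveI := hU.mono_f
  haveI : Epi U.f := hU.exact.epi_f (hz.eq_of_tgt _ _)
  haveI := isIso_of_mono_of_epi U.f
  obtain ⟨L, hL, hLc⟩ := hdet
  obtain ⟨ec⟩ := Rank2Pn.cl_det (SubLine.rank_biprod (Rank2Pn.rank_O a) (Rank2Pn.rank_O b))
    ⟨L, ExtPowPull.isExtPow_of_iso e hL, hLc⟩
  refine Serre2.twist_inj (k := k) ((PnEuler.tw_add 1 k a b).symm.trans ?_)
  exact hU1.symm.trans ((cl_eq_iff.2 ⟨asIso U.f⟩).trans (hU2.trans (cl_eq_iff.2 ⟨ec.symm⟩)))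

theorem exists_det {n : ℕ} {E : (CohB1.ProjSpace n k).Modules} (hE : FlatMod.IsFinLocFreeOfRank 2 E) :
    ∃ c : ℤ, ∃ L : (CohB1.ProjSpace n k).Modules, ExtPow.IsExtPow 2 E L ∧
      Nonempty (L ≅ Twist.twistProjSpace n k c) := by
  obtain ⟨c, hc⟩ := Rank2Pn.exists_iso_O (H28.PBCores.rank_top hE)
  exact ⟨c, _, H28.ExtSh.isExtPow_L 2 (H28.KvbModel.lf_of_rank hE), hc⟩

end Groth.Agent.H28.VdV
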