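import Groth.Agent.H28.VdV.Lines
import Groth.Agent.H28.Serre2.Class
import Groth.Agent.H28.CIHodge.Chain
import Groth.Agent.Synt29.PnBott
import Groth.Agent.S11486
import Groth.Agent.H28.KPn

/-!
A rank two bundle on the plane with the first cohomology of `Ω(1)` is `Ω(1)`.

The class in `H¹(E(-1))` gives an extension which has no intermediate cohomology, hence is trivial after a twist,
and the two resulting sequences ending in `O(1)` are both bijective on sections.
-/

set_option autoImplicit false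
set_option linter.style.haveILetI false
set_option linter.unusedSectionVars false
set_option backward.isDefEq.respectTransparency false
set_option backward.isDefEq.respectTransparency.types false
set_option maxHeartbeats 1000000

universe u

open CategoryTheory CategoryTheory.Limits AlgebraicGeometry TopologicalSpace Opposite
open scoped Groth.Agent.H23.PicMul

noncomputable section

namespace Groth.Agent.H28.VdV

open Groth.Agent Groth.Agent.Synt29 Groth.Agent.H23.PicMul Groth.Agent.AModX Groth.Agent.H28.GM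

section General

variable {X : Scheme.{u}}

theorem acyclic_injective (J : X.Modules) [Injective J] (p : ℕ) : Subsingleton (Coh.HH X J (p + 1)) := by
  haveI : ModSite.HasSheafHom (O := X.sheaf) (Coh.structureModule X) := SheafHomX.isLeftAdjoint_ten _
  exact QCoh.subsingleton_HH_of_iso ((SheafHomX.unitIso X).app J) (p + 1)
    (ExtGlobal.acyclic_hom_injective (Coh.structureModule X) J p)

variable {k : Type u} [Field k] [X.Over (Spec (CommRingCat.of k))]

/-- A first cohomology class is the boundary of the unit section of an extension by the structure module. -/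
theorem exists_extension [EnoughInjectives X.Modules] (N : X.Modules) (x : Coh.HH X N 1) :
    ∃ (V : X.Modules) (i : N ⟶ V) (p : V ⟶ Coh.structureModule X) (w : i ≫ p = 0)
      (hT : (ShortComplex.mk i p w).ShortExact),
      dl k hT (show Γ(Coh.structureModule X, ⊤) from (1 : Γ(X, ⊤))) = x := by
  let S : ShortComplex X.Modules := ShortComplex.mk (Injective.ι N) (cokernel.π (Injective.ι N)) (cokernel.condition _)
  have hS : S.ShortExact :=
    { exact := ShortComplex.exact_cokernel (Injective.ι N)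
      mono_f := inferInstanceAs (Mono (Injective.ι N))
      epi_g := inferInstanceAs (Epi (cokernel.π (Injective.ι N))) }
  haveI : Subsingleton (Coh.HH X S.X₂ 1) := acyclic_injective (Injective.under N) 0
  obtain ⟨r, rfl⟩ := exists_dl (k := k) hS (x := x) (Subsingleton.elim (α := Coh.HH X S.X₂ 1) _ _)
  let φ : Coh.structureModule X ⟶ S.X₃ := InvX.ofSect r
  have : Epi S.g := hS.epi_g
  let i : N ⟶ pullback S.g φ := pullback.lift S.f 0 (by rw [S.zero, zero_comp])
  have hip : i ≫ pullback.snd S.g φ = 0 := pullback.lift_snd _ _ _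
  have hi : i ≫ pullback.fst S.g φ = S.f := pullback.lift_fst _ _ _
  have : Mono S.f := hS.mono_f
  have hmono : Mono i := mono_of_mono_fac hi
  let T : ShortComplex X.Modules := ShortComplex.mk i (pullback.snd S.g φ) hip
  have hT : T.ShortExact := by
    refine { exact := ShortComplex.exact_of_f_is_kernel T (KernelFork.IsLimit.ofι' _ hip fun {Z} z hz => ?_)
             mono_f := hmono
             epi_g := inferInstanceAs (Epi (pullback.snd S.g φ)) }
    have hz' : (z ≫ pullback.fst S.g φ) ≫ S.g = 0 := by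
      rw [Category.assoc, pullback.condition, ← Category.assoc, hz, zero_comp]
    refine ⟨hS.fIsKernel.lift (KernelFork.ofι _ hz'), ?_⟩
    have hfac : hS.fIsKernel.lift (KernelFork.ofι _ hz') ≫ S.f = z ≫ pullback.fst S.g φ :=
      Fork.IsLimit.lift_ι hS.fIsKernel
    apply pullback.hom_ext
    · rw [Category.assoc, hi]; exact hfac
    · rw [Category.assoc, hip, comp_zero, hz]
  refine ⟨_, i, _, hip, hT, ?_⟩
  let f : T ⟶ S :=
    { τ₁ := 𝟙 N
      τ₂ := pullback.fst S.g φ
      τ₃ := φ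
      comm₁₂ := (Category.id_comp _).trans hi.symm
      comm₂₃ := pullback.condition }
  have h := dl_natural (k := k) hT hS f (show Γ(Coh.structureModule X, ⊤) from (1 : Γ(X, ⊤)))
  rw [show φ.app ⊤ (show Γ(Coh.structureModule X, ⊤) from (1 : Γ(X, ⊤))) = r from InvX.one_ofSect r] at h
  refine Eq.trans ?_ h
  exact (PnHodge.mapLin_id_apply k 1 _).symm

variable (k) in
include k in
/-- Sections of the quotient when the subobject has neither sections nor first cohomology. -/
theorem bijective_g {S : ShortComplex X.Modules} (hS : S.ShortExact) (h0 : Subsingleton Γ(S.X₁, ⊤))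
    (h1 : Subsingleton (Coh.HH X S.X₁ 1)) : Function.Bijective (S.g.app ⊤) := by
  refine ⟨(injective_iff_map_eq_zero _).2 fun u hu => ?_, fun r => ?_⟩
  · obtain ⟨a, rfl⟩ := exists_section_lift hS hu
    rw [h0.elim a 0, map_zero]
  · exact (dl_eq_zero_iff (k := k) hS r).1 (h1.elim _ _)

omit [X.Over (Spec (CommRingCat.of k))] in
/-- Lifts from free modules are unique and exist when sections map bijectively. -/
theorem existsUnique_lift {n : ℕ} {Q A B : X.Modules} (e : Q ≅ FlatMod.freeMod X n) (g : A ⟶ B)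
    (hg : Function.Bijective (g.app ⊤)) (ψ : Q ⟶ B) : ∃! χ : Q ⟶ A, χ ≫ g = ψ := by
  choose a ha using fun i => hg.2 (InvX.one (Sigma.ι (fun _ : Fin n => Coh.structureModule X) i ≫ e.inv ≫ ψ))
  have hlift : (e.hom ≫ Sigma.desc fun i => InvX.ofSect (a i)) ≫ g = ψ := by
    rw [← cancel_epi e.inv, Category.assoc, Iso.inv_hom_id_assoc]
    refine Sigma.hom_ext _ _ fun i => RegEpi.hom_eq_of_one_eq _ _ ?_
    rw [Sigma.ι_desc_assoc]
    show g.app ⊤ (InvX.one (InvX.ofSect (a i))) = _
    rw [InvX.one_ofSect]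
    exact ha i
  refine ⟨_, hlift, fun χ hχ => ?_⟩
  rw [← cancel_epi e.inv]
  refine Sigma.hom_ext _ _ fun i => RegEpi.hom_eq_of_one_eq _ _ (hg.1 ?_)
  show InvX.one ((Sigma.ι (fun _ : Fin n => Coh.structureModule X) i ≫ e.inv ≫ χ) ≫ g) =
    InvX.one ((Sigma.ι (fun _ : Fin n => Coh.structureModule X) i ≫ e.inv ≫
      e.hom ≫ Sigma.desc fun i => InvX.ofSect (a i)) ≫ g)
  simp only [Category.assoc] at hlift ⊢
  rw [hχ, hlift]

omit [X.Over (Spec (CommRingCat.of k))] in
/-- Two presentations of a module by free modules which are bijective on sections have isomorphic kernels. -/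
theorem kernels_iso {n : ℕ} {S S' : ShortComplex X.Modules} (hS : S.ShortExact) (hS' : S'.ShortExact)
    (eS : S.X₂ ≅ FlatMod.freeMod X n) (eS' : S'.X₂ ≅ FlatMod.freeMod X n) (e3 : S.X₃ ≅ S'.X₃)
    (hb : Function.Bijective (S.g.app ⊤)) (hb' : Function.Bijective (S'.g.app ⊤)) :
    Nonempty (S.X₁ ≅ S'.X₁) := by
  obtain ⟨α, hα, -⟩ := existsUnique_lift eS S'.g hb' (S.g ≫ e3.hom)
  obtain ⟨β, hβ, -⟩ := existsUnique_lift eS' S.g hb (S'.g ≫ e3.inv)
  have h1 : α ≫ β = 𝟙 _ := by
    refine (existsUnique_lift eS S.g hb S.g).unique ?_ (Category.id_comp _)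
    rw [Category.assoc, hβ, ← Category.assoc, hα, Category.assoc, e3.hom_inv_id, Category.comp_id]
  have h2 : β ≫ α = 𝟙 _ := by
    refine (existsUnique_lift eS' S'.g hb' S'.g).unique ?_ (Category.id_comp _)
    rw [Category.assoc, hα, ← Category.assoc, hβ, Category.assoc, e3.inv_hom_id, Category.comp_id]
  exact ⟨IsLimit.conePointUniqueUpToIso hS.fIsKernel (kernelIsKernel S.g) ≪≫
    kernel.mapIso S.g S'.g ⟨α, β, h1, h2⟩ e3 hα.symm ≪≫
    IsLimit.conePointUniqueUpToIso (kernelIsKernel S'.g) hS'.fIsKernel⟩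

end General

section Plane

variable {k : Type u} [Field k] [IsAlgClosed k] [CharZero k]

local instance over6 : ∀ n : ℕ, (CohB1.ProjSpace n k).Over (Spec (CommRingCat.of k)) := fun n =>
  ⟨CohB1.ProjSpace.toSpec n k⟩

local instance qs6 : ∀ n : ℕ, QuasiSeparated (CohB1.ProjSpace.toSpec n k) := fun n => by
  haveI := PnCoh.Chow.isProper_toSpec n k
  infer_instance

local notation "P2" => CohB1.ProjSpace 2 k

/-- A split rank three bundle with only non-positive twists and three sections is free. -/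
theorem free_of_sections {W : (CohB1.ProjSpace 2 k).Modules} {c : Fin 3 → ℤ}
    (e : W ≅ ∐ fun j : Fin 3 => Twist.twistProjSpace 2 k (c j)) (hc : ∀ j, c j ≤ 0)
    {G : (CohB1.ProjSpace 2 k).Modules} (g : W ⟶ G) (hg : Function.Surjective (Canon.HHlin k g 0))
    (hG : Module.finrank k (Coh.HH (CohB1.ProjSpace 2 k) G 0) = 3) :
    Nonempty (W ≅ FlatMod.freeMod (CohB1.ProjSpace 2 k) 3) := by
  let T := fun j : Fin 3 => Twist.twistProjSpace 2 k (c j)
  let p : ∀ l, W ⟶ T l := fun l => e.hom ≫ Sigma.desc fun i => if h : i = l then eqToHom (by rw [h]) else 0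
  let q : ∀ l, T l ⟶ W := fun l => Sigma.ι T l ≫ e.inv
  have hid : ∑ l, p l ≫ q l = 𝟙 W := by
    calc ∑ l, p l ≫ q l = e.hom ≫ (∑ l, (Sigma.desc fun i => if h : i = l then eqToHom (by rw [h]) else 0 :
          ∐ T ⟶ T l) ≫ Sigma.ι T l) ≫ e.inv := by
            simp only [p, q, Preadditive.comp_sum, Preadditive.sum_comp, Category.assoc]
            rfl
      _ = 𝟙 W := by rw [LineSimple.sigma_total, Category.id_comp, Iso.hom_inv_id]
  let Φ : Coh.HH (P2) W 0 →ₗ[k] ∀ l, Coh.HH (P2) (T l) 0 := LinearMap.pi fun l => Canon.HHlin k (p l) 0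
  have hΦ : Function.Injective Φ := (injective_iff_map_eq_zero _).2 fun x hx => by
    have h : Canon.HHlin k (∑ l, p l ≫ q l) 0 x = 0 := by
      rw [PnDual.HHlin_sum]
      exact Finset.sum_eq_zero fun l _ => by
        rw [← PnDual.HHlin_comp, show Canon.HHlin k (p l) 0 x = 0 from congrFun hx l, map_zero]
    rw [hid] at h
    exact (PnHodge.mapLin_id_apply k 0 x).symm.trans h
  have hz : ∀ j, c j ≠ 0 → Subsingleton (Coh.HH (P2) (T j) 0) := fun j hj =>
    Groth.Agent.S0844.result k 2 (c j) 0 (fun h => by have := hc j; omega) fun h => by omega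
  have hfin : ∀ j, Module.Finite k (Coh.HH (P2) (T j) 0) ∧
      Module.finrank k (Coh.HH (P2) (T j) 0) = if c j = 0 then 1 else 0 := fun j => by
    by_cases hj : c j = 0
    · rw [if_pos hj]
      rw [show T j = Twist.twistProjSpace 2 k 0 by simp only [T, hj]]
      simpa using PnBott.h0_line 2 k 0
    · rw [if_neg hj]
      haveI := hz j hj
      exact ⟨inferInstance, Module.finrank_zero_of_subsingleton⟩
  haveI : ∀ j, Module.Finite k (Coh.HH (P2) (T j) 0) := fun j => (hfin j).1
  haveI : Module.Finite k (Coh.HH (P2) W 0) := Module.Finite.of_injective Φ hΦ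
  have h3 : 3 ≤ ∑ j, if c j = 0 then 1 else 0 := by
    have h1 := LinearMap.finrank_le_finrank_of_injective hΦ
    have h2 := LinearMap.finrank_range_add_finrank_ker (Canon.HHlin k g 0)
    rw [LinearMap.range_eq_top.2 hg, finrank_top, hG] at h2
    rw [Module.finrank_pi_fintype, Finset.sum_congr rfl fun j _ => (hfin j).2] at h1
    omega
  have hall : ∀ j, c j = 0 := fun j => by
    by_contra hj
    simp only [Fin.sum_univ_three] at h3
    fin_cases j <;> simp_all <;> split_ifs at h3 <;> omega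
  exact ⟨e ≪≫ Sigma.mapIso fun j => eqToIso (by rw [hall j]) ≪≫ (Groth.Agent.H28.KPn.tw_zero k 2).some⟩

theorem cl_omega_hodge :
    PicF.cl (CohB1.tensorMod (Twist.twistProjSpace 2 k 1) (Omega.sheaf (CohB1.ProjSpace.toSpec 2 k))) =
      PnEuler.hodge 2 k 1 1 := by
  have hΩ := PnEuler.isFinLocFree_of_rank (PnEuler.rank_omega 2 k)
  rw [cl_tensor]
  exact congrArg (PnEuler.tw 2 k 1 * ·)
    (cl_eq_iff.2 (H28.ExtSh.nonempty_iso_L hΩ (KvbLam.isExtPow_one _))).symm

/-- Recognition of `Ω(1)`. -/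
theorem iso_omega {E : (CohB1.ProjSpace 2 k).Modules} (hE : FlatMod.IsFinLocFreeOfRank 2 E)
    (h0 : Subsingleton Γ(E, ⊤))
    (hneg : Subsingleton Γ(GM.twd E (-1), ⊤))
    (hv : ∀ d : ℤ, d ≠ -1 → Subsingleton (Coh.HH (CohB1.ProjSpace 2 k) (GM.twd E d) 1))
    (hone : Module.finrank k (Coh.HH (CohB1.ProjSpace 2 k) (GM.twd E (-1)) 1) = 1) :
    Nonempty (E ≅ CohB1.tensorMod (Omega.sheaf (CohB1.ProjSpace.toSpec 2 k)) (Twist.twistProjSpace 2 k 1)) := by
  haveI : EnoughInjectives (P2).Modules := inferInstance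
  haveI : Nontrivial (Coh.HH (P2) (twd E (-1)) 1) := Module.nontrivial_of_finrank_pos (R := k) (by omega)
  obtain ⟨x, hx⟩ := exists_ne (0 : Coh.HH (P2) (twd E (-1)) 1)
  obtain ⟨V, i, p, w, hT, hdl⟩ := exists_extension (k := k) (twd E (-1)) x
  let S : ShortComplex (P2).Modules := ShortComplex.mk i p w
  have hrV : FlatMod.IsFinLocFreeOfRank 3 V := by
    obtain ⟨e0⟩ := nonempty_O_zero (m := 2) (k := k)
    exact H28.CIHodge.rank_mid hT (a := 2) (b := 1) (rank_twd hE (-1))
      (SubLine.rank_of_cl (n := 2) (k := k) (cl_eq_iff.2 ⟨e0.symm⟩) (Rank2Pn.rank_O (n := 2) (k := k) 0))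
  have hclX₁ : ∀ d : ℤ, PicF.cl (CohB1.tensorMod (twd E (-1)) (Twist.twistProjSpace 2 k d)) =
      PicF.cl (twd E (-1 + d)) := fun d => by
    rw [cl_tensor, cl_twd, cl_twd, mul_assoc]
    exact congrArg (PicF.cl E * ·) (PnEuler.tw_add 2 k (-1) d)
  have hclX₃ : ∀ d : ℤ, PicF.cl (CohB1.tensorMod (Coh.structureModule (P2)) (Twist.twistProjSpace 2 k d)) =
      PnEuler.tw 2 k d := fun d => by rw [cl_tensor, ← H23.PicMul.one_def, one_mul]
  -- no intermediate cohomology
  have hV1 : ∀ d : ℤ, Subsingleton (Coh.HH (P2) (CohB1.tensorMod V (Twist.twistProjSpace 2 k d)) 1) := fun d => by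
    by_cases hd : d = 0
    · subst hd
      obtain ⟨eV⟩ := cl_eq_iff.1 (show PicF.cl (CohB1.tensorMod V (Twist.twistProjSpace 2 k 0)) = PicF.cl V by
        rw [cl_tensor, show PicF.cl (Twist.twistProjSpace 2 k 0) = 1 from PnEuler.tw_zero 2 k, mul_one])
      refine QCoh.subsingleton_HH_of_iso eV.symm 1 ?_
      have hO : Subsingleton (Coh.HH (P2) (Coh.structureModule (P2)) 1) := by
        obtain ⟨e0⟩ := nonempty_O_zero (m := 2) (k := k)
        exact QCoh.subsingleton_HH_of_iso e0 1
          (Groth.Agent.S0844.result k 2 0 1 (fun h => by omega) fun h => by omega)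
      refine subsingleton_of_forall_eq 0 fun y => ?_
      obtain ⟨z, rfl⟩ := exists_of_g (k := k) hT (x := y) (hO.elim _ _)
      obtain ⟨a, rfl⟩ := (finrank_eq_one_iff_of_nonzero' x hx).1 hone z
      rw [map_smul, ← hdl, f_dl, smul_zero]
    · have hTd := SubLine.shortExact_twist (n := 2) (k := k) d hT
      obtain ⟨e1⟩ := cl_eq_iff.1 (hclX₁ d)
      obtain ⟨e3⟩ := cl_eq_iff.1 (hclX₃ d)
      exact QCoh.subsingleton_HH_X₂ hTd 1 (QCoh.subsingleton_HH_of_iso e1.symm 1 (hv _ (by omega)))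
        (QCoh.subsingleton_HH_of_iso e3.symm 1 (Groth.Agent.S0844.result k 2 d 1 (fun h => by omega) fun h => by omega))
  obtain ⟨a, ⟨ea⟩⟩ := (Groth.Agent.S11486.result k 2 3 V hrV).2 fun i d hi hi2 => by
    obtain rfl : i = 1 := by omega
    exact hV1 d
  -- no sections
  have hV0 : Subsingleton Γ(V, ⊤) := by
    suffices ∀ v : Γ(V, ⊤), v = 0 from ⟨fun s t => (this s).trans (this t).symm⟩
    intro v
    obtain ⟨c, hc⟩ := endo_one (m := 2) (p.app ⊤ v)
    have h : dl k hT (p.app ⊤ v) = 0 := (dl_eq_zero_iff hT _).2 ⟨v, rfl⟩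
    have h' : c • x = 0 := by
      rw [← hdl, ← dl_smul]
      exact (congrArg (dl k hT) hc).symm.trans h
    have hc0 : p.app ⊤ v = 0 := by
      rw [hc, (smul_eq_zero.1 h').resolve_right hx, map_zero, zero_smul]
    obtain ⟨r, rfl⟩ := exists_section_lift hT hc0
    rw [hneg.elim r 0, map_zero]
  have ha : ∀ j, a j ≤ -1 := fun j => by
    by_contra hlt
    obtain ⟨f, hf⟩ := Rank2Pn.exists_ne_zero (n := 2) (k := k) (a := 0) (b := a j) (by omega)
    obtain ⟨e0⟩ := nonempty_O_zero (m := 2) (k := k)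
    have hz : e0.inv ≫ f ≫ Sigma.ι (fun j : Fin 3 => Twist.twistProjSpace 2 k (a j)) j ≫ ea.inv = 0 :=
      RegEpi.hom_eq_of_one_eq _ _ (hV0.elim _ _)
    rw [← cancel_epi e0.hom, Iso.hom_inv_id_assoc, comp_zero] at hz
    exact hf ((cancel_mono (Sigma.ι (fun j : Fin 3 => Twist.twistProjSpace 2 k (a j)) j ≫ ea.inv)).1
      (hz.trans zero_comp.symm))
  -- the twisted extension
  let G := DCoh.tensorBi.flip.obj (Twist.twistProjSpace 2 k 1)
  haveI : G.IsEquivalence := SubLine.isEquivalence_twist (n := 2) (k := k) 1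
  haveI : G.Additive := Functor.additive_of_preserves_binary_products _
  have hS1 : (S.map G).ShortExact := SubLine.shortExact_twist (n := 2) (k := k) 1 hT
  obtain ⟨e1⟩ := cl_eq_iff.1 (show PicF.cl (S.map G).X₁ = PicF.cl E by
    rw [show PicF.cl (S.map G).X₁ = _ from hclX₁ 1, cl_twd, show (-1 : ℤ) + 1 = 0 by norm_num,
      PnEuler.tw_zero, mul_one])
  obtain ⟨e3⟩ := cl_eq_iff.1 (hclX₃ 1)
  obtain ⟨eE⟩ := cl_eq_iff.1 (show PicF.cl E = PicF.cl (twd E 0) by rw [cl_twd, PnEuler.tw_zero, mul_one])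
  have hE1 : Subsingleton (Coh.HH (P2) (S.map G).X₁ 1) :=
    QCoh.subsingleton_HH_of_iso (e1 ≪≫ eE).symm 1 (hv 0 (by omega))
  have hbS : Function.Bijective ((S.map G).g.app ⊤) := bijective_g k hS1
    ((ConcreteCategory.bijective_of_isIso (e1.hom.app ⊤)).1.subsingleton) hE1
  have hO1 : Module.finrank k (Coh.HH (P2) (S.map G).X₃ 0) = 3 := by
    refine (RegDescent.HHequiv (k := k) (show (S.map G).X₃ ≅ _ from e3) 0).finrank_eq.trans ?_
    exact ((PnBott.h0_line 2 k 1).2).trans (by simp)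
  let G' := G.mapIso ea ≪≫ PreservesCoproduct.iso G _ ≪≫ Sigma.mapIso fun j =>
    (cl_eq_iff.1 (show PicF.cl (G.obj (Twist.twistProjSpace 2 k (a j))) = PnEuler.tw 2 k (a j + 1) from
      (cl_tensor _ _).trans (PnEuler.tw_add 2 k (a j) 1))).some
  obtain ⟨eF⟩ := free_of_sections (c := fun j => a j + 1) G' (fun j => by have := ha j; omega) (S.map G).g
    (Quadric.surjective_g_of_h1 (k := k) hS1 hE1) hO1
  -- compare with the tautological sequence
  obtain ⟨T, hTT, -, -, hT3, ⟨eK⟩, ⟨eT⟩⟩ := PnEuler.exists_taut_ses 2 k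
  have hK : PicF.cl T.X₁ = PnEuler.hodge 2 k 1 1 := (cl_eq_iff.2 ⟨eK⟩).trans cl_omega_hodge
  have hbT : Function.Bijective (T.g.app ⊤) := bijective_g k hTT
    (HyperH0.subsingleton_sections (PnHodge.vanish_pos 2 k 1 one_pos 3 1 0 (by omega) (fun _ => le_rfl) T.X₁ hK))
    (PnHodge.vanish_pos 2 k 1 one_pos 3 1 1 (by omega) (by simp) T.X₁ hK)
  obtain ⟨eX3⟩ := cl_eq_iff.1 ((hclX₃ 1).trans hT3.symm)
  obtain ⟨eKer⟩ := kernels_iso hS1 hTT eF eT eX3 hbS hbT
  exact cl_eq_iff.1 (((cl_eq_iff.2 ⟨e1.symm ≪≫ eKer ≪≫ eK⟩).trans (cl_tensor _ _)).trans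
    ((_root_.mul_comm _ _).trans (cl_tensor _ _).symm))

end Plane

end Groth.Agent.H28.VdV
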