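import Groth.Agent.H28.VdV.Cases
import Groth.Agent.H28.VdV.Omega
import Groth.Agent.S11488
import Groth.Agent.H28.KPn

/-!
Uniform bundles of rank two on the plane.
-/

set_option autoImplicit false
set_option linter.style.haveILetI false
set_option linter.unusedSectionVars false
set_option backward.isDefEq.respectTransparency false
set_option backward.isDefEq.respectTransparency.types false
set_option maxHeartbeats 1000000

universe u

open CategoryTheory CategoryTheory.Limits AlgebraicGeometry TopologicalSpace Opposite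
open scoped Groth.Agent.H23.PicMul

noncomputable section

namespace Groth.Agent.H28.VdV

open Groth.Agent Groth.Agent.Synt29 Groth.Agent.H23.PicMul Groth.Agent.H28.GM

variable {k : Type u} [Field k] [IsAlgClosed k] [CharZero k]

local instance over7 : ∀ n : ℕ, (CohB1.ProjSpace n k).Over (Spec (CommRingCat.of k)) := fun n =>
  ⟨CohB1.ProjSpace.toSpec n k⟩

local instance qs7 : ∀ n : ℕ, QuasiSeparated (CohB1.ProjSpace.toSpec n k) := fun n => by
  haveI := PnCoh.Chow.isProper_toSpec n k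
  infer_instance

/-- Twisting a sum of line bundles back. -/
theorem split_untwist {E : (CohB1.ProjSpace 2 k).Modules} (d : ℤ) {r : ℕ} {b : Fin r → ℤ}
    (e : twd E d ≅ ∐ fun j => Twist.twistProjSpace 2 k (b j)) :
    ∃ b' : Fin r → ℤ, Nonempty (E ≅ ∐ fun j => Twist.twistProjSpace 2 k (b' j)) := by
  let G := twF (k := k) 2 (-d)
  haveI : G.IsEquivalence := SubLine.isEquivalence_twist (n := 2) (k := k) (-d)
  refine ⟨fun j => b j + -d, ?_⟩
  obtain ⟨eE⟩ := cl_eq_iff.1 (show PicF.cl E = PicF.cl (G.obj (twd E d)) by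
    rw [show PicF.cl (G.obj (twd E d)) = _ from cl_tensor _ _, cl_twd, mul_assoc,
      show PnEuler.tw 2 k d * PnEuler.tw 2 k (-d) = PnEuler.tw 2 k (d + -d) from PnEuler.tw_add 2 k d (-d),
      add_neg_cancel, PnEuler.tw_zero, mul_one])
  exact ⟨eE ≪≫ G.mapIso e ≪≫ PreservesCoproduct.iso G _ ≪≫ Sigma.mapIso fun j =>
    (cl_eq_iff.1 (show PicF.cl (G.obj (Twist.twistProjSpace 2 k (b j))) = PnEuler.tw 2 k (b j + -d) from
      (cl_tensor _ _).trans (PnEuler.tw_add 2 k (b j) (-d)))).some⟩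

theorem exists_closed_point : ∃ x : CohB1.ProjSpace 2 k, IsClosed ({x} : Set (CohB1.ProjSpace 2 k)) := by
  obtain ⟨j, hj, -⟩ := exists_data (k := k) e0_ne_zero
  haveI := PnCoh.Chow.isProper_toSpec 2 k
  haveI : CompactSpace (CohB1.ProjSpace 2 k) :=
    QuasiCompact.compactSpace_of_compactSpace (CohB1.ProjSpace.toSpec 2 k)
  haveI : IsIntegral (CohB1.ProjSpace 2 k) := H23.PnChart.isIntegral_projSpace 2 k
  obtain ⟨x, -, hx⟩ := IsClosed.exists_closed_singleton (X := CohB1.ProjSpace 2 k) isClosed_univ Set.univ_nonempty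
  exact ⟨x, hx⟩

/-- A bundle which is trivial on every line is trivial. -/
theorem split_of_uniform_zero {E : (CohB1.ProjSpace 2 k).Modules} (hE : FlatMod.IsFinLocFreeOfRank 2 E)
    (hu : Uniform 0 E) :
    ∃ b : Fin 2 → ℤ, Nonempty (E ≅ ∐ fun j => Twist.twistProjSpace 2 k (b j)) := by
  obtain ⟨x, hx⟩ := exists_closed_point (k := k)
  obtain ⟨e⟩ := Groth.Agent.S11488.result k 2 2 E hE x hx fun i _ hi hτ _ => by
    obtain ⟨e⟩ := hu i hi hτ
    exact ⟨e ≪≫ biprod.mapIso (Iso.refl _) (eqToIso (by rw [neg_zero])) ≪≫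
      (SubLine.two fun _ : Fin 2 => Twist.twistProjSpace 1 k 0).symm ≪≫
      Sigma.mapIso fun _ => (Groth.Agent.H28.KPn.tw_zero k 1).some⟩
  exact ⟨fun _ => 0, ⟨e ≪≫ Sigma.mapIso fun _ => (Groth.Agent.H28.KPn.tw_zero k 2).some.symm⟩⟩

/-- A normalised uniform bundle which does not split is `Ω(1)`. -/
theorem omega_of_uniform {E : (CohB1.ProjSpace 2 k).Modules} (hE : FlatMod.IsFinLocFreeOfRank 2 E) {m : ℤ}
    (hm : 0 ≤ m) (hu : Uniform m E)
    (hns : ¬ ∃ b : Fin 2 → ℤ, Nonempty (E ≅ ∐ fun j => Twist.twistProjSpace 2 k (b j))) :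
    Nonempty (E ≅ CohB1.tensorMod (Omega.sheaf (CohB1.ProjSpace.toSpec 2 k)) (Twist.twistProjSpace 2 k 1)) := by
  rcases eq_or_lt_of_le hm with rfl | hm0
  · exact absurd (split_of_uniform_zero hE hu) hns
  by_cases h0 : Subsingleton Γ(E, ⊤)
  · rcases eq_or_lt_of_le (show 1 ≤ m by omega) with rfl | hm1
    · obtain ⟨hv, hone⟩ := h1_without_section hE hu rfl h0
      exact iso_omega hE h0 (sections_vanish hE hu zero_le_one (-1) le_rfl) hv hone
    · exact (false_of_wide hE hu hm1 h0).elim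
  · obtain ⟨σ, hσ⟩ : ∃ σ : Γ(E, ⊤), σ ≠ 0 := by
      by_contra! hall
      exact h0 ⟨fun a b => (hall a).trans (hall b).symm⟩
    refine absurd ?_ hns
    refine (Groth.Agent.S11486.result k 2 2 E hE).2 fun i d hi hi2 => ?_
    obtain rfl : i = 1 := by omega
    exact h1_vanish_of_section hE hu (by omega) hσ d

/-- The classification. -/
theorem main {E : (CohB1.ProjSpace 2 k).Modules} (hE : FlatMod.IsFinLocFreeOfRank 2 E) (a : Fin 2 → ℤ)
    (huniform : ∀ (i : CohB1.ProjSpace 1 k ⟶ CohB1.ProjSpace 2 k) [IsClosedImmersion i],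
      i ≫ CohB1.ProjSpace.toSpec 2 k = CohB1.ProjSpace.toSpec 1 k →
      Nonempty ((Scheme.Modules.pullback i).obj (Twist.twistProjSpace 2 k 1) ≅ Twist.twistProjSpace 1 k 1) →
      Nonempty ((Scheme.Modules.pullback i).obj E ≅ ∐ fun j : Fin 2 => Twist.twistProjSpace 1 k (a j)))
    (hns : ¬ ∃ b : Fin 2 → ℤ, Nonempty (E ≅ ∐ fun j : Fin 2 => Twist.twistProjSpace 2 k (b j))) :
    ∃ b : ℤ, Nonempty (E ≅ CohB1.tensorMod (Omega.sheaf (CohB1.ProjSpace.toSpec 2 k)) (Twist.twistProjSpace 2 k b)) := by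
  let A := max (a 0) (a 1)
  have hu : Uniform (A - min (a 0) (a 1)) (twd E (-A)) := fun j _ hq hτ => by
    obtain ⟨e⟩ := huniform j hq hτ
    obtain ⟨e2⟩ := HyperH0.pullback_twist_free j hτ (e ≪≫ SubLine.two _) (-A)
    obtain ⟨e3⟩ := twist_biprod (k := k) 1 (a 0) (a 1) (-A) (Iso.refl _)
    rcases le_total (a 1) (a 0) with h | h
    · exact ⟨e2 ≪≫ e3 ≪≫ biprod.mapIso (eqToIso (congrArg (Twist.twistProjSpace 1 k) (by
        simp only [A, max_eq_left h]; ring))) (eqToIso (congrArg (Twist.twistProjSpace 1 k) (by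
        simp only [A, max_eq_left h, min_eq_right h]; ring)))⟩
    · exact ⟨e2 ≪≫ e3 ≪≫ biprod.braiding _ _ ≪≫ biprod.mapIso (eqToIso (congrArg (Twist.twistProjSpace 1 k) (by
        simp only [A, max_eq_right h]; ring))) (eqToIso (congrArg (Twist.twistProjSpace 1 k) (by
        simp only [A, max_eq_right h, min_eq_left h]; ring)))⟩
  obtain ⟨e⟩ := omega_of_uniform (rank_twd hE (-A)) (by simp only [A]; omega) hu fun ⟨b, ⟨e⟩⟩ => hns (split_untwist (-A) e)
  refine ⟨1 + A, cl_eq_iff.1 ?_⟩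
  have h := congrArg (· * PnEuler.tw 2 k A) (cl_eq_iff.2 ⟨e⟩)
  simp only [cl_twd, cl_tensor, mul_assoc] at h
  rw [show PnEuler.tw 2 k (-A) * PnEuler.tw 2 k A = PnEuler.tw 2 k (-A + A) from PnEuler.tw_add 2 k (-A) A,
    neg_add_cancel, PnEuler.tw_zero, mul_one] at h
  rw [h, cl_tensor]
  exact congrArg (PicF.cl _ * ·) (PnEuler.tw_add 2 k 1 A)

end Groth.Agent.H28.VdV
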